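import Groth.Agent.Topos.H575.CechNat
import Groth.Agent.CohtopB.HypGlue
import Groth.Agent.CohtopB.HypHZero

/-!
# Degree zero Cech cohomology of a sheaf over a hypercovering, natural form

`h0 hK F : F(X) ≃ H^0(K, F)`, natural in the sheaf `F` and in the hypercovering `K`.
-/

set_option autoImplicit false

universe u

open CategoryTheory CategoryTheory.Limits Opposite AlgebraicTopology Simplicial

namespace Groth.Agent.Topos.H575.HZeroNat

open Groth.Agent.CohtopA.CechInj Groth.Agent.CohtopA.CechLES Groth.Agent.Topos.H575.CechNat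
open Groth.Agent.CohtopB.LocTriv Groth.Agent.CohtopB.HypHZero

section general

variable {D : Type u} [SmallCategory D] {J : GrothendieckTopology D}
  {K : SimplicialObject (FormalCoproduct.{u} D)}

/-- The canonical augmentation to a terminal object. -/
def augT {T : D} (hT : IsTerminal T) (W : FormalCoproduct.{u} D) :
    W ⟶ (FormalCoproduct.incl D).obj T :=
  ⟨fun _ => PUnit.unit, fun _ => hT.from _⟩

lemma hom_incl_ext {T : D} (hT : IsTerminal T) {W : FormalCoproduct.{u} D}
    (f g : W ⟶ (FormalCoproduct.incl D).obj T) : f = g :=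
  FormalCoproduct.hom_ext (funext fun _ => rfl) fun _ => hT.hom_ext _ _

lemma map_map {P : Dᵒᵖ ⥤ AddCommGrpCat.{u}} {A B T : D} {f : A ⟶ B} {g : B ⟶ T} {h : A ⟶ T}
    (w : f ≫ g = h) (x : P.obj (op T)) : P.map f.op (P.map g.op x) = P.map h.op x := by
  subst w
  rw [op_comp, Functor.map_comp]
  rfl

lemma augH_congr {T : D} {P : Dᵒᵖ ⥤ AddCommGrpCat.{u}}
    {a a' : K _⦋0⦌ ⟶ (FormalCoproduct.incl D).obj T} (e : a = a')
    (h : AugExact a P) (h' : AugExact a' P) (x : P.obj (op T)) : augH h x = augH h' x := by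
  subst e
  rfl

/-- The canonical augmentation is exact for sheaves and locally fillable simplicial objects. -/
theorem augExact {T : D} (hT : IsTerminal T)
    (h : IsLocHyp J (Groth.Agent.CohtopB.HypGlue.augPt K)) {P : Dᵒᵖ ⥤ AddCommGrpCat.{u}}
    (hP : Presheaf.IsSheaf J P) (a : K _⦋0⦌ ⟶ (FormalCoproduct.incl D).obj T) :
    AugExact a P := by
  refine ⟨?_, ?_, ?_⟩
  · intro x y hxy
    refine eq_of_loc hP ((h.zero (V := T) PUnit.unit).mono ?_)
    rintro W g ⟨z, -⟩
    have h1 := congr(comp P _ (z.f PUnit.unit) $hxy)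
    rw [comp_augMap, comp_augMap] at h1
    let zφ : W ⟶ (K _⦋0⦌).obj (z.f PUnit.unit) := z.φ PUnit.unit
    have h2 := congr(P.map zφ.op $h1)
    have h3 : zφ ≫ a.φ (z.f PUnit.unit) = g := hT.hom_ext _ _
    exact (map_map h3 x).symm.trans (h2.trans (map_map h3 y))
  · intro x
    rw [dEv_zero_apply, sub_eq_zero]
    refine ev_ext _ fun i => ?_
    rw [comp_evMap, comp_evMap, comp_augMap, comp_augMap]
    have h3 : ((K.δ (0 : Fin 2)).φ i ≫ a.φ _) = ((K.δ (1 : Fin 2)).φ i ≫ a.φ _) :=
      hT.hom_ext _ _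
    exact (map_map h3 x).trans (map_map rfl x).symm
  · intro x hx
    obtain ⟨t, ht⟩ := exists_section_of_cocycle h hP x hx (V := T) PUnit.unit
    refine ⟨t, ev_ext _ fun i => ?_⟩
    rw [comp_augMap]
    have h5 := ht (a.φ i) (FormalCoproduct.Hom.fromIncl i (𝟙 ((K _⦋0⦌).obj i))) rfl
    rw [Groth.Agent.CohtopB.HypInj.evh_fromIncl] at h5
    exact h5

end general

section over

variable {C : Type u} [SmallCategory C] {J : GrothendieckTopology C} {X : C}

/-- Restriction of presheaves to the over category. -/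
abbrev ovr (X : C) (P : Cᵒᵖ ⥤ AddCommGrpCat.{u}) : (Over X)ᵒᵖ ⥤ AddCommGrpCat.{u} :=
  (Over.forget X).op ⋙ P

/-- Restriction of morphisms of presheaves to the over category. -/
abbrev ovrMap (X : C) {P Q : Cᵒᵖ ⥤ AddCommGrpCat.{u}} (φ : P ⟶ Q) : ovr X P ⟶ ovr X Q :=
  Functor.whiskerLeft (Over.forget X).op φ

lemma isSheaf_ovr (F : Sheaf J AddCommGrpCat.{u}) : Presheaf.IsSheaf (J.over X) (ovr X F.obj) :=
  (F.over X).property

variable [HasPullbacks C]
  [∀ (n : ℕ) (F : (SimplexCategory.Truncated n)ᵒᵖ ⥤ FormalCoproduct.{u} (Over X)),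
    (SimplexCategory.Truncated.inclusion n).op.HasRightKanExtension F]
  {K L : SimplicialObject (FormalCoproduct.{u} (Over X))}

omit [HasPullbacks C]
  [∀ (n : ℕ) (F : (SimplexCategory.Truncated n)ᵒᵖ ⥤ FormalCoproduct.{u} (Over X)),
    (SimplexCategory.Truncated.inclusion n).op.HasRightKanExtension F] in
/-- The augmentation of a simplicial object over `X`. -/
noncomputable def aug (K : SimplicialObject (FormalCoproduct.{u} (Over X))) :
    K _⦋0⦌ ⟶ (FormalCoproduct.incl (Over X)).obj (Over.mk (𝟙 X)) :=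
  augT Over.mkIdTerminal _

omit [HasPullbacks C]
  [∀ (n : ℕ) (F : (SimplexCategory.Truncated n)ᵒᵖ ⥤ FormalCoproduct.{u} (Over X)),
    (SimplexCategory.Truncated.inclusion n).op.HasRightKanExtension F] in
lemma aug_comp (f : L ⟶ K) : f.app (op ⦋0⦌) ≫ aug K = aug L :=
  hom_incl_ext Over.mkIdTerminal _ _

theorem augExact_of_isHypercovering (hK : Hyper.IsHypercovering J X K)
    (F : Sheaf J AddCommGrpCat.{u}) : AugExact (aug K) (ovr X F.obj) :=
  augExact Over.mkIdTerminal (Groth.Agent.CohtopB.HypGlue.isLocHyp_of_isHypercovering K hK)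
    (isSheaf_ovr F) _

/-- The natural map `F(X) ⟶ H^0(K, F)` for a hypercovering `K` of `X`. -/
noncomputable def h0 (hK : Hyper.IsHypercovering J X K) (F : Sheaf J AddCommGrpCat.{u}) :
    F.obj.obj (op X) →+ (cx K (ovr X F.obj)).homology 0 :=
  (augH (augExact_of_isHypercovering hK F)).hom

lemma h0_bijective (hK : Hyper.IsHypercovering J X K) (F : Sheaf J AddCommGrpCat.{u}) :
    Function.Bijective (h0 hK F) :=
  augH_bijective (augExact_of_isHypercovering hK F)

/-- Naturality of `h0` in the sheaf. -/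
lemma hMap_h0 (hK : Hyper.IsHypercovering J X K) {F G : Sheaf J AddCommGrpCat.{u}} (φ : F ⟶ G)
    (x : F.obj.obj (op X)) :
    hMap K (ovrMap X φ.hom) 0 (h0 hK F x) = h0 hK G (φ.hom.app (op X) x) :=
  hMap_augH (V := Over.mk (𝟙 X)) (ovrMap X φ.hom) _ _ x

/-- Naturality of `h0` in the hypercovering. -/
lemma hRes_h0 (f : L ⟶ K) (hK : Hyper.IsHypercovering J X K) (hL : Hyper.IsHypercovering J X L)
    (F : Sheaf J AddCommGrpCat.{u}) (x : F.obj.obj (op X)) :
    hRes f (ovr X F.obj) 0 (h0 hK F x) = h0 hL F x := by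
  have hL' : AugExact (f.app (op ⦋0⦌) ≫ aug K) (ovr X F.obj) := by
    rw [aug_comp]
    exact augExact_of_isHypercovering hL F
  exact (hRes_augH f (augExact_of_isHypercovering hK F) hL' x).trans
    (augH_congr (aug_comp f) hL' (augExact_of_isHypercovering hL F) x)

end over

end Groth.Agent.Topos.H575.HZeroNat
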