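import Groth.Prelude.Def_Hyper2
import Groth.Agent.Topos.H575.HZeroNat
import Mathlib.CategoryTheory.Sites.Abelian
import Mathlib.CategoryTheory.Abelian.FunctorCategory
import Mathlib.CategoryTheory.Preadditive.LeftExact

/-!
# Cech classes over hypercoverings: dying classes and presheaf maps which are isomorphisms
after sheafification

* `Dies J X P q`: every class of `H^q(K, P)`, `K` a hypercovering of `X`, dies on a refinement.
* `Kills J X`: presheaves with zero associated sheaf have dying classes in all degrees (S3882).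
* For `φ : P ⟶ Q` with `φ^#` an isomorphism: `inj_of_isIso`, `surj_of_isIso` say that `φ` is
  bijective on Cech classes up to refinement; hence `dies_iff_of_isIso`.
-/

set_option autoImplicit false

universe u

open CategoryTheory CategoryTheory.Limits Opposite AlgebraicTopology Simplicial

set_option linter.dupNamespace false

namespace Groth.Agent.Topos.H575.Dies

open Groth.Agent.CohtopA.CechLES Groth.Agent.Topos.H575.CechNat Groth.Agent.Topos.H575.HZeroNat

variable {C : Type u} [SmallCategory C]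

/-- Restriction of a short exact sequence of presheaves to the over category is pointwise
short exact. -/
lemma pointwise (X : C) {S : ShortComplex (Cᵒᵖ ⥤ AddCommGrpCat.{u})} (hS : S.ShortExact) (V : Over X) :
    ((S.map ((Functor.whiskeringLeft _ _ AddCommGrpCat.{u}).obj (Over.forget X).op)).map
      ((evaluation (Over X)ᵒᵖ AddCommGrpCat.{u}).obj (op V))).ShortExact :=
  hS.map_of_exact ((evaluation Cᵒᵖ AddCommGrpCat.{u}).obj (op V.left))

section ses

variable {X : C} {S : ShortComplex (Cᵒᵖ ⥤ AddCommGrpCat.{u})} (hS : S.ShortExact)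
  {K L : SimplicialObject (FormalCoproduct.{u} (Over X))}

/-- The connecting map. -/
noncomputable abbrev cn (K : SimplicialObject (FormalCoproduct.{u} (Over X))) (q : ℕ) :
    (cx K (ovr X S.X₃)).homology q →+ (cx K (ovr X S.X₁)).homology (q + 1) :=
  conn (pointwise X hS) K q

include hS

lemma ex₂ (q : ℕ) (x : (cx K (ovr X S.X₂)).homology q) (hx : hMap K (ovrMap X S.g) q x = 0) :
    ∃ y, hMap K (ovrMap X S.f) q y = x :=
  exact₂ (pointwise X hS) q x hx

lemma ex₃ (q : ℕ) (x : (cx K (ovr X S.X₃)).homology q) (hx : cn hS K q x = 0) :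
    ∃ y, hMap K (ovrMap X S.g) q y = x :=
  exact₃ (pointwise X hS) q x hx

lemma ex₁ (q : ℕ) (x : (cx K (ovr X S.X₁)).homology (q + 1))
    (hx : hMap K (ovrMap X S.f) (q + 1) x = 0) : ∃ y, cn hS K q y = x :=
  exact₁ (pointwise X hS) q x hx

lemma ex₀ (x : (cx K (ovr X S.X₁)).homology 0) (hx : hMap K (ovrMap X S.f) 0 x = 0) : x = 0 :=
  hMap_injective_zero (pointwise X hS) x hx

lemma cn_hMap (q : ℕ) (x : (cx K (ovr X S.X₂)).homology q) :
    cn hS K q (hMap K (ovrMap X S.g) q x) = 0 :=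
  conn_hMap (pointwise X hS) q x

lemma hRes_cn (f : L ⟶ K) (q : ℕ) (x : (cx K (ovr X S.X₃)).homology q) :
    hRes f (ovr X S.X₁) (q + 1) (cn hS K q x) = cn hS L q (hRes f (ovr X S.X₃) q x) :=
  hRes_conn (pointwise X hS) f q x

end ses

section defs

variable (J : GrothendieckTopology C) (X : C)
  [∀ (n : ℕ) (F : (SimplexCategory.Truncated n)ᵒᵖ ⥤ FormalCoproduct.{u} (Over X)),
    (SimplexCategory.Truncated.inclusion n).op.HasRightKanExtension F]

/-- Every class of `H^q(K, P)`, `K` a hypercovering of `X`, dies on a refinement. -/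
def Dies (P : Cᵒᵖ ⥤ AddCommGrpCat.{u}) (q : ℕ) : Prop :=
  ∀ (K : SimplicialObject (FormalCoproduct.{u} (Over X))), Hyper.IsHypercovering J X K →
    ∀ ξ : Hyper.cechH X K P q, ∃ (L : SimplicialObject (FormalCoproduct.{u} (Over X))) (f : L ⟶ K),
      Hyper.IsHypercovering J X L ∧ Hyper.cechHMap X f P q ξ = 0

/-- `Dies` in terms of `hRes`. -/
lemma dies_iff (P : Cᵒᵖ ⥤ AddCommGrpCat.{u}) (q : ℕ) : Dies J X P q ↔
    ∀ (K : SimplicialObject (FormalCoproduct.{u} (Over X))), Hyper.IsHypercovering J X K →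
    ∀ ξ : (cx K (ovr X P)).homology q, ∃ (L : SimplicialObject (FormalCoproduct.{u} (Over X)))
      (f : L ⟶ K), Hyper.IsHypercovering J X L ∧ hRes f (ovr X P) q ξ = 0 :=
  Iff.rfl

/-- Presheaves with zero associated sheaf have dying classes. -/
def Kills : Prop := ∀ (N : Cᵒᵖ ⥤ AddCommGrpCat.{u}),
  IsZero ((presheafToSheaf J AddCommGrpCat.{u}).obj N) → ∀ q : ℕ, Dies J X N q

/-- `φ` is injective on Cech classes up to refinement. -/
def RInj {P Q : Cᵒᵖ ⥤ AddCommGrpCat.{u}} (φ : P ⟶ Q) (q : ℕ) : Prop :=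
  ∀ (K : SimplicialObject (FormalCoproduct.{u} (Over X))), Hyper.IsHypercovering J X K →
    ∀ ξ : (cx K (ovr X P)).homology q, hMap K (ovrMap X φ) q ξ = 0 →
      ∃ (L : SimplicialObject (FormalCoproduct.{u} (Over X))) (f : L ⟶ K),
        Hyper.IsHypercovering J X L ∧ hRes f (ovr X P) q ξ = 0

/-- `φ` is surjective on Cech classes up to refinement. -/
def RSurj {P Q : Cᵒᵖ ⥤ AddCommGrpCat.{u}} (φ : P ⟶ Q) (q : ℕ) : Prop :=
  ∀ (K : SimplicialObject (FormalCoproduct.{u} (Over X))), Hyper.IsHypercovering J X K →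
    ∀ ξ : (cx K (ovr X Q)).homology q,
      ∃ (L : SimplicialObject (FormalCoproduct.{u} (Over X))) (f : L ⟶ K)
        (η : (cx L (ovr X P)).homology q),
        Hyper.IsHypercovering J X L ∧ hMap L (ovrMap X φ) q η = hRes f (ovr X Q) q ξ

end defs

variable {J : GrothendieckTopology C} {X : C}
  [∀ (n : ℕ) (F : (SimplexCategory.Truncated n)ᵒᵖ ⥤ FormalCoproduct.{u} (Over X)),
    (SimplexCategory.Truncated.inclusion n).op.HasRightKanExtension F]


section comp

variable {P Q R : Cᵒᵖ ⥤ AddCommGrpCat.{u}} {φ : P ⟶ Q} {ψ : Q ⟶ R} {q : ℕ}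

lemma RInj.comp (h : RInj J X φ q) (h' : RInj J X ψ q) : RInj J X (φ ≫ ψ) q := by
  intro K hK ξ hξ
  have h1 : ovrMap X (φ ≫ ψ) = ovrMap X φ ≫ ovrMap X ψ := rfl
  rw [h1, hMap_comp] at hξ
  obtain ⟨L, f, hL, hf⟩ := h' K hK _ hξ
  rw [hRes_hMap] at hf
  obtain ⟨M, g, hM, hg⟩ := h L hL _ hf
  exact ⟨M, g ≫ f, hM, by rw [hRes_comp, hg]⟩

lemma RSurj.comp (h : RSurj J X φ q) (h' : RSurj J X ψ q) : RSurj J X (φ ≫ ψ) q := by
  intro K hK ξ
  obtain ⟨L, f, η, hL, hη⟩ := h' K hK ξ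
  obtain ⟨M, g, ζ, hM, hζ⟩ := h L hL η
  refine ⟨M, g ≫ f, ζ, hM, ?_⟩
  have h1 : ovrMap X (φ ≫ ψ) = ovrMap X φ ≫ ovrMap X ψ := rfl
  rw [h1, hMap_comp, hζ, ← hRes_hMap, hη, hRes_comp]

/-- Bijectivity up to refinement gives the equivalence of `Dies`. -/
lemma dies_iff_of_bij (h : RInj J X φ q) (h' : RSurj J X φ q) : Dies J X P q ↔ Dies J X Q q := by
  constructor
  · intro hP K hK ξ
    obtain ⟨L, f, η, hL, hη⟩ := h' K hK ξ
    obtain ⟨M, g, hM, hg⟩ := (dies_iff J X P q).1 hP L hL η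
    refine ⟨M, g ≫ f, hM, ?_⟩
    change hRes (g ≫ f) _ q ξ = 0
    rw [hRes_comp, ← hη, hRes_hMap, hg, map_zero]
  · intro hQ K hK ξ
    obtain ⟨L, f, hL, hf⟩ := (dies_iff J X Q q).1 hQ K hK (hMap K (ovrMap X φ) q ξ)
    rw [hRes_hMap] at hf
    obtain ⟨M, g, hM, hg⟩ := h L hL _ hf
    refine ⟨M, g ≫ f, hM, ?_⟩
    change hRes (g ≫ f) _ q ξ = 0
    rw [hRes_comp, hg]

end comp

section ses2

variable {S : ShortComplex (Cᵒᵖ ⥤ AddCommGrpCat.{u})} (hS : S.ShortExact)

include hS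

lemma rInj_g {q : ℕ} (h : Dies J X S.X₁ q) : RInj J X S.g q := by
  intro K hK ξ hξ
  obtain ⟨η, rfl⟩ := ex₂ hS q ξ hξ
  obtain ⟨L, f, hL, hf⟩ := (dies_iff J X _ q).1 h K hK η
  exact ⟨L, f, hL, by rw [hRes_hMap, hf, map_zero]⟩

lemma rSurj_g {q : ℕ} (h : Dies J X S.X₁ (q + 1)) : RSurj J X S.g q := by
  intro K hK ξ
  obtain ⟨L, f, hL, hf⟩ := (dies_iff J X _ (q + 1)).1 h K hK (cn hS K q ξ)
  rw [hRes_cn] at hf
  obtain ⟨η, hη⟩ := ex₃ hS q _ hf
  exact ⟨L, f, η, hL, hη⟩

lemma rInj_f_zero : RInj J X S.f 0 := by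
  intro K hK ξ hξ
  refine ⟨K, 𝟙 K, hK, ?_⟩
  rw [ex₀ hS ξ hξ, map_zero]

lemma rInj_f_succ {q : ℕ} (h : Dies J X S.X₃ q) : RInj J X S.f (q + 1) := by
  intro K hK ξ hξ
  obtain ⟨η, rfl⟩ := ex₁ hS q ξ hξ
  obtain ⟨L, f, hL, hf⟩ := (dies_iff J X _ q).1 h K hK η
  exact ⟨L, f, hL, by rw [hRes_cn, hf, map_zero]⟩

lemma rSurj_f {q : ℕ} (h : Dies J X S.X₃ q) : RSurj J X S.f q := by
  intro K hK ξ
  obtain ⟨L, f, hL, hf⟩ := (dies_iff J X _ q).1 h K hK (hMap K (ovrMap X S.g) q ξ)
  rw [hRes_hMap] at hf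
  obtain ⟨η, hη⟩ := ex₂ hS q _ hf
  exact ⟨L, f, η, hL, hη⟩

/-- Dimension shifting: if the classes of the middle term die, those of the outer terms are
related by the connecting map. -/
lemma dies_succ_iff {q : ℕ} (h : Dies J X S.X₂ q) (h' : Dies J X S.X₂ (q + 1)) :
    Dies J X S.X₁ (q + 1) ↔ Dies J X S.X₃ q := by
  constructor
  · intro h1 K hK ξ
    obtain ⟨L, f, η, hL, hη⟩ := rSurj_g hS h1 K hK ξ
    obtain ⟨M, g, hM, hg⟩ := (dies_iff J X _ q).1 h L hL η
    refine ⟨M, g ≫ f, hM, ?_⟩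
    change hRes (g ≫ f) _ q ξ = 0
    rw [hRes_comp, ← hη, hRes_hMap, hg, map_zero]
  · intro h3 K hK ξ
    obtain ⟨L, f, hL, hf⟩ := (dies_iff J X _ _).1 h' K hK (hMap K (ovrMap X S.f) (q + 1) ξ)
    rw [hRes_hMap] at hf
    obtain ⟨M, g, hM, hg⟩ := rInj_f_succ hS h3 L hL _ hf
    refine ⟨M, g ≫ f, hM, ?_⟩
    change hRes (g ≫ f) _ (q + 1) ξ = 0
    rw [hRes_comp, hg]

end ses2

section sheafify

variable (J) {P Q : Cᵒᵖ ⥤ AddCommGrpCat.{u}} (φ : P ⟶ Q)
  [IsIso ((presheafToSheaf J AddCommGrpCat.{u}).map φ)]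

omit [∀ (n : ℕ) (F : (SimplexCategory.Truncated n)ᵒᵖ ⥤ FormalCoproduct.{u} (Over X)),
    (SimplexCategory.Truncated.inclusion n).op.HasRightKanExtension F]

lemma isZero_kernel : IsZero ((presheafToSheaf J AddCommGrpCat.{u}).obj (kernel φ)) := by
  have e := PreservesKernel.iso (presheafToSheaf J AddCommGrpCat.{u}) φ
  exact (isZero_kernel_of_mono _).of_iso e

lemma isZero_cokernel : IsZero ((presheafToSheaf J AddCommGrpCat.{u}).obj (cokernel φ)) := by
  have e := PreservesCokernel.iso (presheafToSheaf J AddCommGrpCat.{u}) φ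
  exact (isZero_cokernel_of_epi _).of_iso e

end sheafify

section ses3

variable {P Q : Cᵒᵖ ⥤ AddCommGrpCat.{u}} (φ : P ⟶ Q)

lemma kernel_fac : kernel.ι φ ≫ factorThruImage φ = 0 := by
  rw [← cancel_mono (image.ι φ)]; simp

lemma cokernel_fac : image.ι φ ≫ cokernel.π φ = 0 := by
  rw [← cancel_epi (factorThruImage φ)]; simp

lemma exact_kernel' : (ShortComplex.mk (kernel.ι φ) (factorThruImage φ) (kernel_fac φ)).Exact := by
  let f : ShortComplex.mk (kernel.ι φ) (factorThruImage φ) (kernel_fac φ) ⟶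
      ShortComplex.mk (kernel.ι φ) φ (kernel.condition φ) :=
    { τ₁ := 𝟙 _, τ₂ := 𝟙 _, τ₃ := image.ι φ, comm₁₂ := by simp, comm₂₃ := by simp }
  have h1 : Epi f.τ₁ := inferInstanceAs (Epi (𝟙 _))
  have h2 : IsIso f.τ₂ := inferInstanceAs (IsIso (𝟙 _))
  have h3 : Mono f.τ₃ := inferInstanceAs (Mono (image.ι φ))
  exact (ShortComplex.exact_iff_of_epi_of_isIso_of_mono f).2 (ShortComplex.exact_kernel φ)

lemma exact_cokernel' : (ShortComplex.mk (image.ι φ) (cokernel.π φ) (cokernel_fac φ)).Exact := by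
  let f : ShortComplex.mk φ (cokernel.π φ) (cokernel.condition φ) ⟶
      ShortComplex.mk (image.ι φ) (cokernel.π φ) (cokernel_fac φ) :=
    { τ₁ := factorThruImage φ, τ₂ := 𝟙 _, τ₃ := 𝟙 _, comm₁₂ := by simp, comm₂₃ := by simp }
  have h1 : Epi f.τ₁ := inferInstanceAs (Epi (factorThruImage φ))
  have h2 : IsIso f.τ₂ := inferInstanceAs (IsIso (𝟙 _))
  have h3 : Mono f.τ₃ := inferInstanceAs (Mono (𝟙 _))
  exact (ShortComplex.exact_iff_of_epi_of_isIso_of_mono f).1 (ShortComplex.exact_cokernel φ)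

lemma shortExact_kernel :
    (ShortComplex.mk (kernel.ι φ) (factorThruImage φ) (kernel_fac φ)).ShortExact where
  exact := exact_kernel' φ
  mono_f := inferInstanceAs (Mono (kernel.ι φ))
  epi_g := inferInstanceAs (Epi (factorThruImage φ))

lemma shortExact_cokernel :
    (ShortComplex.mk (image.ι φ) (cokernel.π φ) (cokernel_fac φ)).ShortExact where
  exact := exact_cokernel' φ
  mono_f := inferInstanceAs (Mono (image.ι φ))
  epi_g := inferInstanceAs (Epi (cokernel.π φ))

end ses3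

section sheafify2

variable (hkill : Kills J X) {P Q : Cᵒᵖ ⥤ AddCommGrpCat.{u}} (φ : P ⟶ Q)
  [IsIso ((presheafToSheaf J AddCommGrpCat.{u}).map φ)]

include hkill

/-- A map which is an isomorphism after sheafification is injective up to refinement. -/
theorem rInj_of_isIso (q : ℕ) : RInj J X φ q := by
  have h1 := rInj_g (shortExact_kernel φ) (hkill (kernel φ) (isZero_kernel J φ) q)
  have h2 : RInj J X (image.ι φ) q := by
    cases q with
    | zero =>
      have := rInj_f_zero (J := J) (X := X) (shortExact_cokernel φ)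
      exact this
    | succ q =>
      have := rInj_f_succ (shortExact_cokernel φ) (hkill (cokernel φ) (isZero_cokernel J φ) q)
      exact this
  have h3 := RInj.comp (φ := factorThruImage φ) (ψ := image.ι φ) h1 h2
  rwa [image.fac] at h3

/-- A map which is an isomorphism after sheafification is surjective up to refinement. -/
theorem rSurj_of_isIso (q : ℕ) : RSurj J X φ q := by
  have h1 := rSurj_g (shortExact_kernel φ) (hkill (kernel φ) (isZero_kernel J φ) (q + 1))
  have h2 := rSurj_f (shortExact_cokernel φ) (hkill (cokernel φ) (isZero_cokernel J φ) q)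
  have h3 := RSurj.comp (φ := factorThruImage φ) (ψ := image.ι φ) h1 h2
  rwa [image.fac] at h3

include φ in
/-- A map which is an isomorphism after sheafification does not change `Dies`. -/
theorem dies_iff_of_isIso (q : ℕ) : Dies J X P q ↔ Dies J X Q q :=
  dies_iff_of_bij (rInj_of_isIso hkill φ q) (rSurj_of_isIso hkill φ q)

end sheafify2

section sheaf

variable (hkill : Kills J X)

include hkill

/-- The classes of a presheaf die iff those of the associated sheaf do. -/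
theorem dies_iff_sheafify (P : Cᵒᵖ ⥤ AddCommGrpCat.{u}) (q : ℕ) :
    Dies J X P q ↔ Dies J X ((presheafToSheaf J AddCommGrpCat.{u}).obj P).obj q := by
  have : IsIso ((presheafToSheaf J AddCommGrpCat.{u}).map (toSheafify J P)) := inferInstance
  exact dies_iff_of_isIso hkill (toSheafify J P) q

end sheaf

end Groth.Agent.Topos.H575.Dies
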