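import Groth.Prelude.Def_CohSite
import Groth.Agent.Topos.H575.Dies
import Groth.Agent.CohqA.SheafH
import Groth.Agent.S0895
import Groth.Agent.S0896
import Groth.Agent.S3882
import Mathlib.CategoryTheory.Sites.Abelian

/-!
# `H^q(X, F) = 0` iff all Cech classes over hypercoverings of `X` die

Dimension shifting along `0 → F → I → Q → 0` with `I` injective; the presheaf quotient `I/F` and
the sheaf quotient `Q` have the same dying classes.
-/

set_option autoImplicit false

universe u

open CategoryTheory CategoryTheory.Limits Opposite AlgebraicTopology Simplicial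

namespace Groth.Agent.Topos.H575.Main

open Groth.Agent.CohtopA.CechLES Groth.Agent.Topos.H575.CechNat Groth.Agent.Topos.H575.HZeroNat
open Groth.Agent.Topos.H575.Dies

section ext

variable {C : Type u} [SmallCategory C] {J : GrothendieckTopology C}

lemma subsingleton_iff_zero (F : Sheaf J AddCommGrpCat.{u}) (X : C) :
    Subsingleton (CohSite.HU F 0 X) ↔ ∀ x : F.obj.obj (op X), x = 0 := by
  have e : CohSite.HU F 0 X ≃ F.obj.obj (op X) := (Groth.Agent.CohqA.SheafH.H0 F X).toEquiv
  rw [e.subsingleton_congr]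
  exact ⟨fun h x => Subsingleton.elim _ _, fun h => ⟨fun x y => (h x).trans (h y).symm⟩⟩

variable {S : ShortComplex (Sheaf J AddCommGrpCat.{u})} (hS : S.ShortExact) [Injective S.X₂]

include hS

lemma subsingleton_iff_one (X : C) :
    Subsingleton (CohSite.HU S.X₁ 1 X) ↔ ∀ x : S.X₃.obj.obj (op X),
      ∃ y : S.X₂.obj.obj (op X), S.g.hom.app (op X) y = x := by
  constructor
  · intro h x
    obtain ⟨y, hy⟩ := Groth.Agent.CohqA.SheafH.exact₃ hS 0 X
      ((Groth.Agent.CohqA.SheafH.H0 S.X₃ X).symm x)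
      (@Subsingleton.elim (CohSite.HU S.X₁ 1 X) h _ _)
    refine ⟨Groth.Agent.CohqA.SheafH.H0 S.X₂ X y, ?_⟩
    rw [← Groth.Agent.CohqA.SheafH.H0_map, hy, AddEquiv.apply_symm_apply]
  · intro h
    have h0 : ∀ ξ : Groth.Agent.CohqA.SheafH.HU S.X₁ 1 X, ξ = 0 := by
      intro ξ
      have : Subsingleton (Groth.Agent.CohqA.SheafH.HU S.X₂ 1 X) :=
        Groth.Agent.CohqA.SheafH.subsingleton_of_injective S.X₂ 0 X
      obtain ⟨x, hx⟩ := Groth.Agent.CohqA.SheafH.exact₁ hS 0 X ξ (Subsingleton.elim _ _)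
      obtain ⟨y, hy⟩ := h (Groth.Agent.CohqA.SheafH.H0 S.X₃ X x)
      have h1 : x = Groth.Agent.CohqA.SheafH.map S.g 0 X
          ((Groth.Agent.CohqA.SheafH.H0 S.X₂ X).symm y) := by
        apply (Groth.Agent.CohqA.SheafH.H0 S.X₃ X).injective
        rw [Groth.Agent.CohqA.SheafH.H0_map, AddEquiv.apply_symm_apply, hy]
      rw [← hx, h1, Groth.Agent.CohqA.SheafH.δ_map]
    exact ⟨fun a b => (h0 a).trans (h0 b).symm⟩

lemma subsingleton_iff_succ (X : C) (q : ℕ) :
    Subsingleton (CohSite.HU S.X₁ (q + 2) X) ↔ Subsingleton (CohSite.HU S.X₃ (q + 1) X) := by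
  have h1 : Subsingleton (Groth.Agent.CohqA.SheafH.HU S.X₂ (q + 1) X) :=
    Groth.Agent.CohqA.SheafH.subsingleton_of_injective S.X₂ q X
  have h2 : Subsingleton (Groth.Agent.CohqA.SheafH.HU S.X₂ (q + 2) X) :=
    Groth.Agent.CohqA.SheafH.subsingleton_of_injective S.X₂ (q + 1) X
  constructor
  · intro h
    have h0 : ∀ x : Groth.Agent.CohqA.SheafH.HU S.X₃ (q + 1) X, x = 0 := by
      intro x
      obtain ⟨y, hy⟩ := Groth.Agent.CohqA.SheafH.exact₃ hS (q + 1) X x
        (@Subsingleton.elim (CohSite.HU S.X₁ (q + 2) X) h _ _)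
      rw [← hy, Subsingleton.elim y 0, map_zero]
    exact ⟨fun a b => (h0 a).trans (h0 b).symm⟩
  · intro h
    have h0 : ∀ x : Groth.Agent.CohqA.SheafH.HU S.X₁ (q + 2) X, x = 0 := by
      intro x
      obtain ⟨y, hy⟩ := Groth.Agent.CohqA.SheafH.exact₁ hS (q + 1) X x (Subsingleton.elim _ _)
      have hy0 : y = (0 : Groth.Agent.CohqA.SheafH.HU S.X₃ (q + 1) X) :=
        @Subsingleton.elim (CohSite.HU S.X₃ (q + 1) X) h _ _
      rw [← hy, hy0, map_zero]
    exact ⟨fun a b => (h0 a).trans (h0 b).symm⟩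

end ext

section quot

variable {C : Type u} [SmallCategory C] {J : GrothendieckTopology C}
  {S : ShortComplex (Sheaf J AddCommGrpCat.{u})}

variable (S) in
/-- The presheaf quotient maps to the sheaf quotient. -/
noncomputable def quotMap : cokernel S.f.hom ⟶ S.X₃.obj :=
  cokernel.desc _ S.g.hom (congrArg (fun t => t.hom) S.zero)

lemma π_quotMap : cokernel.π S.f.hom ≫ quotMap S = S.g.hom := cokernel.π_desc _ _ _

variable (hS : S.ShortExact)

include hS

lemma mono_hom : Mono S.f.hom := by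
  have := hS.mono_f
  exact inferInstanceAs (Mono ((sheafToPresheaf J AddCommGrpCat.{u}).map S.f))

/-- The short exact sequence of presheaves `0 → F → I → I/F → 0`. -/
lemma presheaf_shortExact :
    (ShortComplex.mk S.f.hom (cokernel.π S.f.hom) (cokernel.condition _)).ShortExact where
  exact := ShortComplex.exact_cokernel _
  mono_f := mono_hom hS
  epi_g := inferInstanceAs (Epi (cokernel.π S.f.hom))

lemma sections_exact (V : C) (y : S.X₂.obj.obj (op V)) (hy : S.g.hom.app (op V) y = 0) :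
    ∃ x : S.X₁.obj.obj (op V), S.f.hom.app (op V) x = y := by
  have := hS.mono_f
  let Φ : Sheaf J AddCommGrpCat.{u} ⥤ AddCommGrpCat.{u} :=
    sheafToPresheaf J AddCommGrpCat.{u} ⋙ (evaluation _ _).obj (op V)
  have h1 : (S.map Φ).Exact := hS.exact.map_of_mono_of_preservesKernel Φ hS.mono_f inferInstance
  exact (ShortComplex.ab_exact_iff _).1 h1 y hy

lemma isIso_map_quotMap : IsIso ((presheafToSheaf J AddCommGrpCat.{u}).map (quotMap S)) := by
  rw [← GrothendieckTopology.W_iff, GrothendieckTopology.W_iff_isLocallyBijective]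
  constructor
  · refine Presheaf.isLocallyInjective_of_injective J _ fun V => ?_
    rw [injective_iff_map_eq_zero]
    intro x hx
    have hπ : Function.Surjective ((cokernel.π S.f.hom).app V) :=
      (AddCommGrpCat.epi_iff_surjective _).1 inferInstance
    obtain ⟨y, rfl⟩ := hπ x
    have hy : S.g.hom.app V y = 0 := by
      have h := congr(($(π_quotMap (S := S))).app V y)
      exact h.symm.trans hx
    obtain ⟨z, rfl⟩ := sections_exact hS V.unop y hy
    exact congr(($(cokernel.condition S.f.hom)).app V z)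
  · have h1 : Sheaf.IsLocallySurjective S.g := by
      have := hS.epi_g
      rw [Sheaf.isLocallySurjective_iff_epi']
      infer_instance
    have h2 : Presheaf.IsLocallySurjective J (cokernel.π S.f.hom ≫ quotMap S) := by
      rw [π_quotMap]
      exact h1
    exact Presheaf.isLocallySurjective_of_isLocallySurjective J (cokernel.π S.f.hom) (quotMap S)

end quot

section main

variable {C : Type u} [SmallCategory C] [HasPullbacks C] {J : GrothendieckTopology C} {X : C}
  [∀ (n : ℕ) (F : (SimplexCategory.Truncated n)ᵒᵖ ⥤ FormalCoproduct.{u} (Over X)),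
    (SimplexCategory.Truncated.inclusion n).op.HasRightKanExtension F]

lemma kills : Kills J X := fun N hN q K hK ξ => Groth.Agent.S3882.result J X K hK N hN q ξ

lemma dies_injective (I : Sheaf J AddCommGrpCat.{u}) [Injective I] (q : ℕ) :
    Dies J X I.obj (q + 1) := by
  intro K hK ξ
  have : Subsingleton (Hyper.cechH X K I.obj (q + 1)) :=
    AddCommGrpCat.subsingleton_of_isZero (Groth.Agent.S0895.result J X K hK I q)
  refine ⟨K, 𝟙 K, hK, ?_⟩
  rw [Subsingleton.elim ξ 0, map_zero]

variable (J X) in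
lemma exists_hypercovering : ∃ K, Hyper.IsHypercovering J X K := by
  obtain ⟨K, hK, -⟩ := Groth.Agent.S0896.result J Set.univ
    (fun Y => ⟨PUnit, inferInstance, fun _ => Y, fun _ => 𝟙 Y, by
      refine J.superset_covering ?_ (J.top_mem Y)
      rw [top_le_iff, ← Sieve.id_mem_iff_eq_top]
      exact ⟨_, 𝟙 Y, 𝟙 Y, ⟨PUnit.unit⟩, by simp⟩, fun _ => trivial⟩)
    (fun Y ι _ U f h _ V g _ => by
      refine J.superset_covering ?_ h
      rw [Sieve.ofArrows, Sieve.generate_le_iff]
      rintro _ _ ⟨i⟩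
      exact ⟨_, 𝟙 _, f i, ⟨(some i : Option ι)⟩, by simp⟩) X
  exact ⟨K, hK⟩

/-- Degree zero. -/
lemma iff_zero (F : Sheaf J AddCommGrpCat.{u}) :
    Subsingleton (CohSite.HU F 0 X) ↔ Dies J X F.obj 0 := by
  rw [subsingleton_iff_zero]
  constructor
  · intro h K hK ξ
    refine ⟨K, 𝟙 K, hK, ?_⟩
    obtain ⟨x, hx⟩ := (h0_bijective hK F).2 ξ
    have : ξ = 0 := by rw [← hx, h x, map_zero]
    rw [this, map_zero]
  · intro h x
    obtain ⟨K, hK⟩ := exists_hypercovering J X
    obtain ⟨L, f, hL, hf⟩ := (dies_iff J X F.obj 0).1 h K hK (h0 hK F x)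
    rw [hRes_h0 f hK hL] at hf
    exact (injective_iff_map_eq_zero _).1 (h0_bijective hL F).1 x hf

/-- Degree one. -/
lemma iff_one {S : ShortComplex (Sheaf J AddCommGrpCat.{u})} (hS : S.ShortExact)
    [Injective S.X₂] : Subsingleton (CohSite.HU S.X₁ 1 X) ↔ Dies J X S.X₁.obj 1 := by
  rw [subsingleton_iff_one hS]
  have hT := presheaf_shortExact hS
  have hq := isIso_map_quotMap hS
  constructor
  · intro h K hK ξ
    obtain ⟨L₀, f₀, hL₀, hf₀⟩ := (dies_iff J X S.X₂.obj 1).1 (dies_injective S.X₂ 0) K hK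
      (hMap K (ovrMap X S.f.hom) 1 ξ)
    rw [hRes_hMap] at hf₀
    obtain ⟨η, hη⟩ := ex₁ hT 0 (hRes f₀ (ovr X S.X₁.obj) 1 ξ) hf₀
    -- the image of `η` in `H^0(L₀, Q)` comes from a global section of `I`
    obtain ⟨x, hx⟩ := (h0_bijective hL₀ S.X₃).2 (hMap L₀ (ovrMap X (quotMap S)) 0 η)
    obtain ⟨y, rfl⟩ := h x
    have h1 : hMap L₀ (ovrMap X (quotMap S)) 0
        (η - hMap L₀ (ovrMap X (cokernel.π S.f.hom)) 0 (h0 hL₀ S.X₂ y)) = 0 := by
      rw [map_sub, ← hx, ← hMap_comp, sub_eq_zero]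
      have : ovrMap X (cokernel.π S.f.hom) ≫ ovrMap X (quotMap S) = ovrMap X S.g.hom := by
        rw [← π_quotMap]
        rfl
      rw [this, hMap_h0]
    obtain ⟨M, g, hM, hg⟩ := rInj_of_isIso kills (quotMap S) 0 L₀ hL₀ _ h1
    refine ⟨M, g ≫ f₀, hM, ?_⟩
    change hRes (g ≫ f₀) _ 1 ξ = 0
    have h2 : cn hT L₀ 0 (η - hMap L₀ (ovrMap X (cokernel.π S.f.hom)) 0 (h0 hL₀ S.X₂ y)) =
        cn hT L₀ 0 η := by
      rw [map_sub]
      have := cn_hMap hT 0 (h0 hL₀ S.X₂ y)
      rw [this, sub_zero]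
    rw [hRes_comp, ← hη, ← h2]
    refine (hRes_cn hT g 0 _).trans ?_
    have h3 := congrArg (cn hT M 0) hg
    rw [map_zero] at h3
    exact h3
  · intro h x
    obtain ⟨K, hK⟩ := exists_hypercovering J X
    obtain ⟨L, f, η, hL, hη⟩ := rSurj_of_isIso kills (quotMap S) 0 K hK (h0 hK S.X₃ x)
    rw [hRes_h0 f hK hL] at hη
    obtain ⟨M, g, hM, hg⟩ := (dies_iff J X S.X₁.obj 1).1 h L hL (cn hT L 0 η)
    obtain ⟨ζ, hζ⟩ := ex₃ hT 0 (hRes g (ovr X (cokernel S.f.hom)) 0 η)
      ((hRes_cn hT g 0 η).symm.trans hg)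
    obtain ⟨y, rfl⟩ := (h0_bijective hM S.X₂).2 ζ
    refine ⟨y, (h0_bijective hM S.X₃).1 ?_⟩
    have : ovrMap X (cokernel.π S.f.hom) ≫ ovrMap X (quotMap S) = ovrMap X S.g.hom := by
      rw [← π_quotMap]
      rfl
    rw [← hMap_h0 hM S.g, ← this, hMap_comp, hζ, ← hRes_hMap, hη, hRes_h0 g hL hM]

/-- Dimension shifting. -/
lemma dies_shift {S : ShortComplex (Sheaf J AddCommGrpCat.{u})} (hS : S.ShortExact)
    [Injective S.X₂] (q : ℕ) : Dies J X S.X₁.obj (q + 2) ↔ Dies J X S.X₃.obj (q + 1) := by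
  have hq := isIso_map_quotMap hS
  have h1 := dies_succ_iff (J := J) (X := X) (presheaf_shortExact hS) (q := q + 1) (dies_injective S.X₂ q)
    (dies_injective S.X₂ (q + 1))
  exact h1.trans (dies_iff_of_isIso kills (quotMap S) (q + 1))

/-- `H^q(X, F) = 0` iff all Cech classes of degree `q` over hypercoverings of `X` die. -/
theorem subsingleton_iff_dies (q : ℕ) : ∀ F : Sheaf J AddCommGrpCat.{u},
    Subsingleton (CohSite.HU F q X) ↔ Dies J X F.obj q := by
  have hmain : ∀ q : ℕ, ∀ F : Sheaf J AddCommGrpCat.{u},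
      Subsingleton (CohSite.HU F (q + 1) X) ↔ Dies J X F.obj (q + 1) := by
    intro q
    induction q with
    | zero =>
      intro F
      let S : ShortComplex (Sheaf J AddCommGrpCat.{u}) :=
        ShortComplex.mk (Injective.ι F) (cokernel.π (Injective.ι F)) (cokernel.condition _)
      have hS : S.ShortExact := { exact := ShortComplex.exact_cokernel _ }
      have : Injective S.X₂ := inferInstanceAs (Injective (Injective.under F))
      exact iff_one hS
    | succ q ih =>
      intro F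
      let S : ShortComplex (Sheaf J AddCommGrpCat.{u}) :=
        ShortComplex.mk (Injective.ι F) (cokernel.π (Injective.ι F)) (cokernel.condition _)
      have hS : S.ShortExact := { exact := ShortComplex.exact_cokernel _ }
      have : Injective S.X₂ := inferInstanceAs (Injective (Injective.under F))
      exact (subsingleton_iff_succ hS X q).trans ((ih S.X₃).trans (dies_shift hS q).symm)
  cases q with
  | zero => exact iff_zero
  | succ q => exact hmain q

end main

end Groth.Agent.Topos.H575.Main
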