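import Groth.Agent.CohtopA.CechLES
import Mathlib.Algebra.Homology.HomologySequenceLemmas

/-!
# Naturality of the Cech long exact sequence in the simplicial formal coproduct

For a morphism `f : L ⟶ K` of simplicial formal coproducts and a presheaf of abelian groups `P`:
* `cxRes f P : cx K P ⟶ cx L P`, `hRes f P q` on cohomology, `hMap K φ q` for `φ : P ⟶ Q`;
* `conn`: the connecting map of a pointwise short exact sequence of presheaves, with
  elementwise exactness `exact₁`, `exact₂`, `exact₃` and naturality `hRes_conn`;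
* `augH_hRes`: compatibility of the augmentations with refinement.
-/

set_option autoImplicit false

universe w v u

open CategoryTheory CategoryTheory.Limits Opposite AlgebraicTopology Simplicial

namespace Groth.Agent.Topos.H575.CechNat

open Groth.Agent.CohtopA.CechInj Groth.Agent.CohtopA.CechLES

variable {D : Type u} [Category.{v} D] {K L M : SimplicialObject (FormalCoproduct.{w} D)}

/-- The map of Cech type complexes induced by a morphism of simplicial formal coproducts. -/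
noncomputable def cxRes (f : L ⟶ K) (P : Dᵒᵖ ⥤ AddCommGrpCat.{w}) : cx K P ⟶ cx L P :=
  (AlgebraicTopology.alternatingCofaceMapComplex AddCommGrpCat.{w}).map
    (((Functor.whiskeringLeft _ _ _).map (NatTrans.rightOp f)).app
      ((FormalCoproduct.evalOp.{w} D AddCommGrpCat.{w}).obj P))

lemma cxRes_f (f : L ⟶ K) (P : Dᵒᵖ ⥤ AddCommGrpCat.{w}) (n : ℕ) :
    (cxRes f P).f n = evMap P (f.app (op ⦋n⦌)) := rfl

lemma evMap_comp (P : Dᵒᵖ ⥤ AddCommGrpCat.{w}) {W W' W'' : FormalCoproduct.{w} D}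
    (g : W ⟶ W') (h : W' ⟶ W'') : evMap P (g ≫ h) = evMap P h ≫ evMap P g :=
  ((FormalCoproduct.evalOp.{w} D AddCommGrpCat.{w}).obj P).map_comp h.op g.op

lemma cxRes_comp (g : M ⟶ L) (f : L ⟶ K) (P : Dᵒᵖ ⥤ AddCommGrpCat.{w}) :
    cxRes (g ≫ f) P = cxRes f P ≫ cxRes g P := by
  ext n : 1
  rw [HomologicalComplex.comp_f, cxRes_f, cxRes_f, cxRes_f]
  exact evMap_comp P _ _

lemma cxMap_cxRes (f : L ⟶ K) {P Q : Dᵒᵖ ⥤ AddCommGrpCat.{w}} (φ : P ⟶ Q) :
    cxMap K φ ≫ cxRes f Q = cxRes f P ≫ cxMap L φ := by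
  ext n : 1
  rw [HomologicalComplex.comp_f, HomologicalComplex.comp_f, cxRes_f, cxRes_f]
  exact (((FormalCoproduct.evalOp.{w} D AddCommGrpCat.{w}).map φ).naturality
    (f.app (op ⦋n⦌)).op).symm

/-- Refinement on cohomology. -/
noncomputable def hRes (f : L ⟶ K) (P : Dᵒᵖ ⥤ AddCommGrpCat.{w}) (q : ℕ) :
    (cx K P).homology q →+ (cx L P).homology q :=
  (HomologicalComplex.homologyMap (cxRes f P) q).hom

/-- Functoriality in the presheaf on cohomology. -/
noncomputable def hMap (K : SimplicialObject (FormalCoproduct.{w} D))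
    {P Q : Dᵒᵖ ⥤ AddCommGrpCat.{w}} (φ : P ⟶ Q) (q : ℕ) :
    (cx K P).homology q →+ (cx K Q).homology q :=
  (HomologicalComplex.homologyMap (cxMap K φ) q).hom

lemma hRes_comp (g : M ⟶ L) (f : L ⟶ K) (P : Dᵒᵖ ⥤ AddCommGrpCat.{w}) (q : ℕ)
    (x : (cx K P).homology q) : hRes (g ≫ f) P q x = hRes g P q (hRes f P q x) := by
  unfold hRes
  rw [cxRes_comp, HomologicalComplex.homologyMap_comp]
  rfl

lemma hRes_id (P : Dᵒᵖ ⥤ AddCommGrpCat.{w}) (q : ℕ)
    (x : (cx K P).homology q) : hRes (𝟙 K) P q x = x := by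
  have h : cxRes (𝟙 K) P = 𝟙 _ := by
    ext n : 1
    rw [cxRes_f]
    exact ((FormalCoproduct.evalOp.{w} D AddCommGrpCat.{w}).obj P).map_id _
  unfold hRes
  rw [h, HomologicalComplex.homologyMap_id]
  rfl

lemma hMap_comp {P Q R : Dᵒᵖ ⥤ AddCommGrpCat.{w}} (φ : P ⟶ Q) (ψ : Q ⟶ R) (q : ℕ)
    (x : (cx K P).homology q) : hMap K (φ ≫ ψ) q x = hMap K ψ q (hMap K φ q x) := by
  have h : cxMap K (φ ≫ ψ) = cxMap K φ ≫ cxMap K ψ := Functor.map_comp _ _ _
  unfold hMap
  rw [h, HomologicalComplex.homologyMap_comp]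
  rfl

lemma hMap_id {P : Dᵒᵖ ⥤ AddCommGrpCat.{w}} (q : ℕ)
    (x : (cx K P).homology q) : hMap K (𝟙 P) q x = x := by
  have h : cxMap K (𝟙 P) = 𝟙 _ := CategoryTheory.Functor.map_id _ _
  unfold hMap
  rw [h, HomologicalComplex.homologyMap_id]
  rfl

lemma hRes_hMap (f : L ⟶ K) {P Q : Dᵒᵖ ⥤ AddCommGrpCat.{w}} (φ : P ⟶ Q) (q : ℕ)
    (x : (cx K P).homology q) : hRes f Q q (hMap K φ q x) = hMap L φ q (hRes f P q x) := by
  have h := congrArg (fun t => HomologicalComplex.homologyMap t q) (cxMap_cxRes f φ)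
  simp only [HomologicalComplex.homologyMap_comp] at h
  exact congr($h x)

section SES

variable {S : ShortComplex (Dᵒᵖ ⥤ AddCommGrpCat.{w})}

/-- Pointwise short exactness gives short exactness of the Cech complexes. -/
theorem shortExact_cechSC (K : SimplicialObject (FormalCoproduct.{w} D))
    (hS : ∀ V : D, (S.map ((evaluation Dᵒᵖ AddCommGrpCat.{w}).obj (op V))).ShortExact) :
    (cechSC K S).ShortExact :=
  cechSC_shortExact K S fun _ _ => hS _

variable (hS : ∀ V : D, (S.map ((evaluation Dᵒᵖ AddCommGrpCat.{w}).obj (op V))).ShortExact)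

/-- The connecting map. -/
noncomputable def conn (K : SimplicialObject (FormalCoproduct.{w} D)) (q : ℕ) :
    (cx K S.X₃).homology q →+ (cx K S.X₁).homology (q + 1) :=
  ((shortExact_cechSC K hS).δ q (q + 1) rfl).hom

/-- The map of short complexes of Cech type complexes induced by a refinement. -/
noncomputable def cechSCRes (f : L ⟶ K) : cechSC K S ⟶ cechSC L S where
  τ₁ := cxRes f S.X₁
  τ₂ := cxRes f S.X₂
  τ₃ := cxRes f S.X₃
  comm₁₂ := (cxMap_cxRes f S.f).symm
  comm₂₃ := (cxMap_cxRes f S.g).symm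

lemma hRes_conn (f : L ⟶ K) (q : ℕ) (x : (cx K S.X₃).homology q) :
    hRes f S.X₁ (q + 1) (conn hS K q x) = conn hS L q (hRes f S.X₃ q x) := by
  have h := HomologicalComplex.HomologySequence.δ_naturality (cechSCRes f)
    (shortExact_cechSC K hS) (shortExact_cechSC L hS) q (q + 1) rfl
  exact congr($h x)

include hS

lemma exact₂ (q : ℕ) (x : (cx K S.X₂).homology q) (hx : hMap K S.g q x = 0) :
    ∃ y, hMap K S.f q y = x :=
  (ShortComplex.ab_exact_iff _).1 ((shortExact_cechSC K hS).homology_exact₂ q) x hx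

lemma exact₃ (q : ℕ) (x : (cx K S.X₃).homology q) (hx : conn hS K q x = 0) :
    ∃ y, hMap K S.g q y = x :=
  (ShortComplex.ab_exact_iff _).1 ((shortExact_cechSC K hS).homology_exact₃ q (q + 1) rfl) x hx

lemma exact₁ (q : ℕ) (x : (cx K S.X₁).homology (q + 1)) (hx : hMap K S.f (q + 1) x = 0) :
    ∃ y, conn hS K q y = x :=
  (ShortComplex.ab_exact_iff _).1 ((shortExact_cechSC K hS).homology_exact₁ q (q + 1) rfl) x hx

omit hS in
lemma mono_homologyMap_zero {X Y : CochainComplex AddCommGrpCat.{w} ℕ} (φ : X ⟶ Y) [Mono φ] :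
    Mono (HomologicalComplex.homologyMap φ 0) := by
  have h3 := HomologicalComplex.homologyπ_naturality φ 0
  have h4 : HomologicalComplex.homologyMap φ 0 =
      inv (X.homologyπ 0) ≫ HomologicalComplex.cyclesMap φ 0 ≫ Y.homologyπ 0 := by
    rw [IsIso.eq_inv_comp]
    exact h3
  rw [h4]
  infer_instance

lemma hMap_injective_zero (x : (cx K S.X₁).homology 0) (hx : hMap K S.f 0 x = 0) : x = 0 := by
  have h1 : Mono (cxMap K S.f) := (shortExact_cechSC K hS).mono_f
  have h2 := mono_homologyMap_zero (cxMap K S.f)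
  exact (injective_iff_map_eq_zero _).1 ((AddCommGrpCat.mono_iff_injective _).1 h2) x hx

lemma conn_hMap (q : ℕ) (x : (cx K S.X₂).homology q) : conn hS K q (hMap K S.g q x) = 0 :=
  congr($((shortExact_cechSC K hS).comp_δ q (q + 1) rfl) x)

lemma hMap_conn (q : ℕ) (x : (cx K S.X₃).homology q) : hMap K S.f (q + 1) (conn hS K q x) = 0 :=
  congr($((shortExact_cechSC K hS).δ_comp q (q + 1) rfl) x)

omit hS in
lemma hMap_hMap (q : ℕ) (x : (cx K S.X₁).homology q) : hMap K S.g q (hMap K S.f q x) = 0 := by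
  have h : HomologicalComplex.homologyMap (cxMap K S.f) q ≫
      HomologicalComplex.homologyMap (cxMap K S.g) q = 0 := by
    rw [← HomologicalComplex.homologyMap_comp]
    have : cxMap K S.f ≫ cxMap K S.g = 0 := (cechSC K S).zero
    rw [this, HomologicalComplex.homologyMap_zero]
  exact congr($h x)

end SES

section Augmentation

variable {V : D} (a : K _⦋0⦌ ⟶ (FormalCoproduct.incl D).obj V) {P : Dᵒᵖ ⥤ AddCommGrpCat.{w}}

lemma augMap_evMap (f : L ⟶ K) (P : Dᵒᵖ ⥤ AddCommGrpCat.{w}) :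
    augMap a P ≫ evMap P (f.app (op ⦋0⦌)) = augMap (f.app (op ⦋0⦌) ≫ a) P := by
  refine ConcreteCategory.hom_ext _ _ fun x => ?_
  apply ev_ext
  intro i
  change comp P _ i (evMap P (f.app (op ⦋0⦌)) (augMap a P x)) = _
  rw [comp_evMap, comp_augMap, comp_augMap]
  change _ = P.map (((f.app (op ⦋0⦌)).φ i ≫ a.φ _).op) x
  rw [op_comp, Functor.map_comp]
  rfl

variable {a}

lemma hRes_augH (f : L ⟶ K) (hK : AugExact a P) (hL : AugExact (f.app (op ⦋0⦌) ≫ a) P)
    (x : P.obj (op V)) : hRes f P 0 (augH hK x) = augH hL x := by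
  have h : augH hK ≫ HomologicalComplex.homologyMap (cxRes f P) 0 = augH hL := by
    rw [augH, augH, Category.assoc, HomologicalComplex.homologyπ_naturality,
      ← Category.assoc]
    congr 1
    rw [← cancel_mono ((cx L P).iCycles 0), Category.assoc, HomologicalComplex.cyclesMap_i,
      ← Category.assoc, augCyc_iCycles, augCyc_iCycles]
    exact augMap_evMap a f P
  exact congr($h x)

lemma hMap_augH {Q : Dᵒᵖ ⥤ AddCommGrpCat.{w}} (φ : P ⟶ Q) (hP : AugExact a P)
    (hQ : AugExact a Q) (x : P.obj (op V)) :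
    hMap K φ 0 (augH hP x) = augH hQ (φ.app (op V) x) :=
  congr($(augH_naturality φ hP hQ) x)

end Augmentation

end Groth.Agent.Topos.H575.CechNat
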